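import Groth.Agent.ResolveInClassLib
import Groth.Agent.S6610
import Groth.Agent.S6616
import Mathlib

/-!
Left resolutions by objects in a class, by duality.
-/

set_option autoImplicit false
set_option backward.isDefEq.respectTransparency false
universe v u

open CategoryTheory CategoryTheory.Limits Opposite

namespace Groth.Agent.ResolveDual

variable {A : Type u} [Category.{v} A] [Abelian A]

theorem exists_epi_quasiIso (P : A → Prop) (hP0 : ∃ Z : A, IsZero Z ∧ P Z)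
    (hP : ∀ X : A, ∃ (Y : A) (π : Y ⟶ X), P Y ∧ Epi π)
    (K : CochainComplex A ℤ) (a : ℤ) [K.IsStrictlyLE a] :
    ∃ (Q : CochainComplex A ℤ) (α : Q ⟶ K), Q.IsStrictlyLE a ∧ (∀ n, P (Q.X n)) ∧
      (∀ n, Epi (α.f n)) ∧ QuasiIso α := by
  let E := CochainComplex.opEquivalence A
  haveI := S6610.isStrictlyGE_op K a
  obtain ⟨Z, hZ, hPZ⟩ := hP0
  obtain ⟨L, ψ, hL, hLP, hψ, hmono⟩ := ResolveInClassLib.exists_mono_quasiIso (fun X : Aᵒᵖ => P X.unop)
    ⟨op Z, hZ.op, hPZ⟩ (fun X => by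
      obtain ⟨Y, π, hY, hπ⟩ := hP X.unop
      exact ⟨op Y, π.op, hY, inferInstance⟩) (E.functor.obj (op K)) (-a)
  haveI := hL
  refine ⟨(E.inverse.obj L).unop, S6610.tr K ψ, S6610.isStrictlyLE_unop L a,
    fun n => hLP (-n), ?_, S6610.qis_tr K ψ hψ⟩
  haveI : Mono ψ := HomologicalComplex.mono_of_mono_f ψ hmono
  haveI : Mono (E.inverse.map ψ) := E.inverse.map_mono ψ
  haveI : Epi (S6610.tr K ψ) := by
    unfold S6610.tr
    haveI : Mono (E.unitIso.hom.app (op K) ≫ E.inverse.map ψ) := mono_comp _ _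
    exact unop_epi_of_mono _
  intro n
  exact inferInstanceAs (Epi ((HomologicalComplex.eval A (ComplexShape.up ℤ) n).map (S6610.tr K ψ)))

/-- The opposite of a biproduct is a biproduct. -/
noncomputable def unopBiprodIso (X Y : Aᵒᵖ) : X.unop ⊞ Y.unop ≅ (X ⊞ Y).unop where
  hom := biprod.desc (biprod.fst : X ⊞ Y ⟶ X).unop (biprod.snd : X ⊞ Y ⟶ Y).unop
  inv := biprod.lift (biprod.inl : X ⟶ X ⊞ Y).unop (biprod.inr : Y ⟶ X ⊞ Y).unop
  hom_inv_id := by ext <;> simp [← unop_comp]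
  inv_hom_id := by
    rw [biprod.lift_desc, ← unop_comp, ← unop_comp, ← unop_add, biprod.total, unop_id]

theorem exists_next (P : ObjectProperty A) [P.IsClosedUnderIsomorphisms]
    (hP0 : ∃ Z : A, IsZero Z ∧ P Z) (hPsum : ∀ X Y : A, P X → P Y → P (X ⊞ Y))
    (hP : ∀ X : A, ∃ (Y : A) (π : Y ⟶ X), P Y ∧ Epi π)
    (C E : CochainComplex A ℤ) (f : E ⟶ C) (c a : ℤ) [C.IsStrictlyLE c] [E.IsStrictlyLE a]
    (hE : ∀ k, P (E.X k)) :
    ∃ (Q : CochainComplex A ℤ) (π : Q ⟶ C) (j : E ⟶ Q), QuasiIso π ∧ (∀ k, Epi (π.f k)) ∧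
      (∃ a', Q.IsStrictlyLE a') ∧ (∀ k, P (Q.X k)) ∧
      (∀ k, (∃ r : Q.X k ⟶ E.X k, j.f k ≫ r = 𝟙 _) ∧ P (cokernel (j.f k))) ∧ j ≫ π = f := by
  let Φ := CochainComplex.opEquivalence A
  haveI := S6610.isStrictlyGE_op C c
  haveI := S6610.isStrictlyGE_op E a
  obtain ⟨Z, hZ, hPZ⟩ := hP0
  obtain ⟨Q', π', p', hπ', hmono, ⟨b, hb⟩, hQ', hp', hcomp⟩ := S6616.exists_next
    P.op
    ⟨op Z, hZ.op, hPZ⟩
    (fun X Y hX hY => P.prop_of_iso (unopBiprodIso X Y) (hPsum X.unop Y.unop hX hY))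
    (fun X => by
      obtain ⟨Y, π, hY, hπ⟩ := hP X.unop
      exact ⟨op Y, π.op, hY, inferInstance⟩)
    (Φ.functor.obj (op C)) (Φ.functor.obj (op E)) (Φ.functor.map f.op) (-c) (-a) (fun k => hE (-k))
  haveI : Q'.IsStrictlyGE (- -b) := by rw [neg_neg]; exact hb
  let j : E ⟶ (Φ.inverse.obj Q').unop := (Φ.inverse.map p' ≫ Φ.unitIso.inv.app (op E)).unop
  let u : ∀ k, E.X k ≅ (Φ.inverse.obj (Φ.functor.obj (op E))).unop.X k := fun k =>
    (HomologicalComplex.eval A (ComplexShape.up ℤ) k).mapIso (Φ.unitIso.symm.app (op E)).unop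
  have hj : ∀ k, j.f k = (u k).hom ≫ (p'.f (-k)).unop := fun k => rfl
  refine ⟨(Φ.inverse.obj Q').unop, S6610.tr C π', j, S6610.qis_tr C π' hπ', ?_,
    ⟨-b, S6610.isStrictlyLE_unop Q' (-b)⟩, fun k => hQ' (-k), fun k => ⟨?_, ?_⟩, ?_⟩
  · haveI : Mono π' := HomologicalComplex.mono_of_mono_f π' hmono
    haveI : Mono (Φ.inverse.map π') := Φ.inverse.map_mono π'
    haveI : Epi (S6610.tr C π') := by
      unfold S6610.tr
      haveI : Mono (Φ.unitIso.hom.app (op C) ≫ Φ.inverse.map π') := mono_comp _ _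
      exact unop_epi_of_mono _
    intro n
    exact inferInstanceAs (Epi ((HomologicalComplex.eval A (ComplexShape.up ℤ) n).map (S6610.tr C π')))
  · obtain ⟨s, hs⟩ := (hp' (-k)).1
    refine ⟨s.unop ≫ (u k).inv, ?_⟩
    have h : (p'.f (-k)).unop ≫ s.unop = 𝟙 _ := congrArg Quiver.Hom.unop hs
    rw [hj, Category.assoc, reassoc_of% h]
    exact (u k).hom_inv_id
  · rw [hj]
    exact P.prop_of_iso ((cokernelUnopUnop (p'.f (-k))).symm ≪≫ (cokernelEpiComp _ _).symm) (hp' (-k)).2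
  · apply Quiver.Hom.op_inj
    simp only [op_comp, S6610.tr, Quiver.Hom.op_unop, j, Category.assoc]
    rw [← Functor.map_comp_assoc, hcomp]
    exact (Φ.unitIso.hom.naturality_assoc f.op _).symm.trans (by simp)

end Groth.Agent.ResolveDual
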